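import Groth.Agent.Lib.FlatElem4.Basic
import Mathlib.RingTheory.Finiteness.Finsupp
import Mathlib.Algebra.Module.FinitePresentation
import Mathlib.Algebra.Module.LocalizedModule.Submodule

/-!
# Finite presentation of localised modules in terms of kernels
-/

set_option linter.style.haveILetI false

universe u

open TensorProduct

namespace Groth.Agent.FlatElem4

variable {B : Type u} [CommRing B] {Q : Type u} [AddCommGroup Q] [Module B Q]

/-- `K` is finitely generated up to `T`-torsion. -/
def Spread (T : Submonoid B) (K : Submodule B Q) : Prop :=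
  ∃ K₀ ≤ K, K₀.FG ∧ ∀ k ∈ K, ∃ s ∈ T, s • k ∈ K₀

theorem fg_localized_iff (T : Submonoid B) (K : Submodule B Q) :
    (K.localized' (Localization T) T (LocalizedModule.mkLinearMap T Q)).FG ↔ Spread T K := by
  classical
  set f := LocalizedModule.mkLinearMap T Q
  constructor
  · rintro ⟨F, hF⟩
    have hrep : ∀ x ∈ F, ∃ k ∈ K, ∃ t : T, IsLocalizedModule.mk' f k t = x := fun x hx =>
      (Submodule.mem_localized' (Localization T) T f K x).1 (hF ▸ Submodule.subset_span hx)
    choose k hk t ht using hrep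
    refine ⟨Submodule.span B (Set.range fun x : F => k x.1 x.2), ?_, ?_, fun y hy => ?_⟩
    · rw [Submodule.span_le]
      rintro _ ⟨x, rfl⟩
      exact hk _ _
    · exact Submodule.fg_span (Set.finite_range _)
    · have hy' : f y ∈ (Submodule.span B (Set.range fun x : F => k x.1 x.2)).localized'
          (Localization T) T f := by
        have : f y ∈ K.localized' (Localization T) T f :=
          (Submodule.mem_localized' (Localization T) T f K _).2 ⟨y, hy, 1, IsLocalizedModule.mk'_one T f y⟩
        rw [← hF] at this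
        refine Submodule.span_le.2 (fun x hx => ?_) this
        exact (Submodule.mem_localized' (Localization T) T f _ x).2
          ⟨_, Submodule.subset_span ⟨⟨x, hx⟩, rfl⟩, t x hx, ht x hx⟩
      obtain ⟨m, hm, s, hs⟩ := (Submodule.mem_localized' (Localization T) T f _ _).1 hy'
      rw [← IsLocalizedModule.mk'_one T f y, IsLocalizedModule.mk'_eq_mk'_iff] at hs
      obtain ⟨u, hu⟩ := hs
      refine ⟨((u * s : T) : B), (u * s).2, ?_⟩
      simp only [one_smul, Submonoid.smul_def] at hu
      rw [Submonoid.coe_mul, mul_smul]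
      first
        | rw [hu]; exact Submodule.smul_mem _ _ hm
        | rw [← hu]; exact Submodule.smul_mem _ _ hm
  · rintro ⟨K₀, hle, ⟨F, hF⟩, h⟩
    refine ⟨F.image f, le_antisymm ?_ ?_⟩
    · rw [Submodule.span_le]
      simp only [Finset.coe_image, Set.image_subset_iff]
      intro x hx
      exact (Submodule.mem_localized' (Localization T) T f K _).2
        ⟨x, hle (hF ▸ Submodule.subset_span hx), 1, IsLocalizedModule.mk'_one T f x⟩
    · intro x hx
      obtain ⟨k, hk, t, rfl⟩ := (Submodule.mem_localized' (Localization T) T f K x).1 hx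
      obtain ⟨s, hs, hsk⟩ := h k hk
      have h1 : f (s • k) ∈ Submodule.span (Localization T) (F.image f : Set (LocalizedModule T Q)) := by
        rw [← hF] at hsk
        have h2 : f (s • k) ∈ Submodule.span B (f '' F) := by
          rw [Submodule.span_image]
          exact Submodule.mem_map_of_mem hsk
        rw [Finset.coe_image]
        exact Submodule.span_le_restrictScalars B (Localization T) _ h2
      have h3 : IsLocalizedModule.mk' f k t =
          IsLocalization.mk' (Localization T) (1 : B) (t * ⟨s, hs⟩ : T) • f (s • k) := by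
        rw [← IsLocalizedModule.mk'_one T f, IsLocalizedModule.mk'_smul_mk', mul_one, one_smul]
        exact (IsLocalizedModule.mk'_cancel_right f k t ⟨s, hs⟩).symm
      rw [h3]
      exact Submodule.smul_mem _ _ h1

variable {N : Type u} [AddCommGroup N] [Module B N] (π : Q →ₗ[B] N) (hπ : Function.Surjective π)
include hπ

theorem spread_of_finitePresentation [Module.Finite B Q] (T : Submonoid B)
    (h : Module.FinitePresentation (Localization T) (LocalizedModule T N)) : Spread T (LinearMap.ker π) := by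
  let f := LocalizedModule.mkLinearMap T Q
  let g := LocalizedModule.mkLinearMap T N
  let πT := (IsLocalizedModule.map T f g π).extendScalarsOfIsLocalization T (Localization T)
  haveI : Module.Finite (Localization T) (LocalizedModule T Q) :=
    Module.Finite.equiv ((isLocalizedModule_iff_isBaseChange T (Localization T) f).1 inferInstance).equiv
  have hs : Function.Surjective πT := IsLocalizedModule.map_surjective T f g π hπ
  have := Module.FinitePresentation.fg_ker πT hs
  rw [← LinearMap.localized'_ker_eq_ker_localizedMap] at this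
  exact (fg_localized_iff T _).1 this

theorem finitePresentation_of_spread [Module.FinitePresentation B Q] (T : Submonoid B)
    (h : Spread T (LinearMap.ker π)) : Module.FinitePresentation (Localization T) (LocalizedModule T N) := by
  let f := LocalizedModule.mkLinearMap T Q
  let g := LocalizedModule.mkLinearMap T N
  let πT := (IsLocalizedModule.map T f g π).extendScalarsOfIsLocalization T (Localization T)
  haveI : Module.FinitePresentation (Localization T) (LocalizedModule T Q) := inferInstance
  have hs : Function.Surjective πT := IsLocalizedModule.map_surjective T f g π hπ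
  refine Module.finitePresentation_of_surjective πT hs ?_
  rw [← LinearMap.localized'_ker_eq_ker_localizedMap]
  exact (fg_localized_iff T _).2 h

theorem finitePresentation_iff_spread [Module.FinitePresentation B Q] (T : Submonoid B) :
    Module.FinitePresentation (Localization T) (LocalizedModule T N) ↔ Spread T (LinearMap.ker π) :=
  ⟨spread_of_finitePresentation π hπ T, finitePresentation_of_spread π hπ T⟩

omit hπ

section BaseChange

variable (B' : Type u) [CommRing B'] [Algebra B B'] [Module.Flat B B'] (K : Submodule B Q)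

theorem spread_baseChange {T : Submonoid B} {T' : Submonoid B'} (hT : ∀ s ∈ T, algebraMap B B' s ∈ T')
    (h : Spread T K) : Spread T' (K.baseChange B') := by
  obtain ⟨K₀, hle, hfg, hk⟩ := h
  refine ⟨K₀.baseChange B', Submodule.baseChange_mono B' hle, by
    obtain ⟨F, rfl⟩ := hfg; rw [Submodule.baseChange_span]; exact Submodule.fg_span (F.finite_toSet.image _), fun k hk' => ?_⟩
  rw [Submodule.baseChange_eq_span] at hk'
  induction hk' using Submodule.span_induction with
  | mem x hx =>
    obtain ⟨y, hy, rfl⟩ := hx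
    obtain ⟨s, hs, hsy⟩ := hk y hy
    refine ⟨algebraMap B B' s, hT s hs, ?_⟩
    rw [algebraMap_smul, ← map_smul]
    exact Submodule.tmul_mem_baseChange_of_mem 1 hsy
  | zero => exact ⟨1, T'.one_mem, by simp⟩
  | add a b _ _ ha hb =>
    obtain ⟨s, hs, ha⟩ := ha
    obtain ⟨t, ht, hb⟩ := hb
    refine ⟨s * t, mul_mem hs ht, ?_⟩
    rw [smul_add, mul_comm s, mul_smul, mul_comm t, mul_smul]
    exact add_mem (Submodule.smul_mem _ _ ha) (Submodule.smul_mem _ _ hb)
  | smul c a _ ha =>
    obtain ⟨s, hs, ha⟩ := ha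
    exact ⟨s, hs, by rw [smul_comm]; exact Submodule.smul_mem _ _ ha⟩

omit [Module.Flat B B'] in
/-- Generators of a finitely generated submodule of `K.baseChange B'` come from finitely many in `K`. -/
theorem exists_fg_le_baseChange {L : Submodule B' (B' ⊗[B] Q)} (hL : L.FG) (hle : L ≤ K.baseChange B') :
    ∃ K₀ ≤ K, K₀.FG ∧ L ≤ K₀.baseChange B' := by
  classical
  obtain ⟨F, rfl⟩ := hL
  have key : ∀ x ∈ K.baseChange B', ∃ K₀ ≤ K, K₀.FG ∧ x ∈ K₀.baseChange B' := by
    intro x hx
    rw [Submodule.baseChange_eq_span] at hx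
    induction hx using Submodule.span_induction with
    | mem x hx =>
      obtain ⟨y, hy, rfl⟩ := hx
      exact ⟨Submodule.span B {y}, by simpa using hy, Submodule.fg_span_singleton y,
        Submodule.tmul_mem_baseChange_of_mem 1 (Submodule.mem_span_singleton_self y)⟩
    | zero => exact ⟨⊥, bot_le, Submodule.fg_bot, zero_mem _⟩
    | add a b _ _ ha hb =>
      obtain ⟨K₁, h1, f1, ha⟩ := ha
      obtain ⟨K₂, h2, f2, hb⟩ := hb
      exact ⟨K₁ ⊔ K₂, sup_le h1 h2, f1.sup f2,
        add_mem (Submodule.baseChange_mono B' le_sup_left ha) (Submodule.baseChange_mono B' le_sup_right hb)⟩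
    | smul c a _ ha =>
      obtain ⟨K₁, h1, f1, ha⟩ := ha
      exact ⟨K₁, h1, f1, Submodule.smul_mem _ _ ha⟩
  choose K₀ h1 f1 hm using fun x : F => key x.1 (hle (Submodule.subset_span x.2))
  refine ⟨⨆ x, K₀ x, iSup_le h1, Submodule.fg_iSup _ f1, Submodule.span_le.2 fun x hx => ?_⟩
  exact Submodule.baseChange_mono B' (le_iSup K₀ ⟨x, hx⟩) (hm ⟨x, hx⟩)

theorem mem_map_of_smul_mem_baseChange (K₀ : Submodule B Q) (x : Q) (b : B')
    (hb : b • ((1 : B') ⊗ₜ[B] x) ∈ K₀.baseChange B') :
    b ∈ Ideal.map (algebraMap B B') (LinearMap.ker (LinearMap.toSpanSingleton B (Q ⧸ K₀) (K₀.mkQ x))) := by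
  set φ := LinearMap.toSpanSingleton B (Q ⧸ K₀) (K₀.mkQ x)
  have hb' : b ⊗ₜ[B] K₀.mkQ x = 0 := by
    have hz : ∀ y ∈ K₀.baseChange B', K₀.mkQ.lTensor B' y = 0 := by
      intro y hy
      rw [Submodule.baseChange_eq_span] at hy
      induction hy using Submodule.span_induction with
      | mem y hy =>
        obtain ⟨z, hz, rfl⟩ := hy
        simp [(Submodule.Quotient.mk_eq_zero K₀).2 hz]
      | zero => simp
      | add a b _ _ ha hb => rw [map_add, ha, hb, add_zero]
      | smul c a _ ha =>
        show (TensorProduct.AlgebraTensorModule.lTensor B' B' K₀.mkQ) (c • a) = 0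
        rw [map_smul]
        exact (congrArg (c • ·) ha).trans (smul_zero c)
    simpa [smul_tmul'] using hz _ hb
  have hex := Module.Flat.lTensor_exact B' (LinearMap.exact_subtype_ker_map φ)
  have h0 : φ.lTensor B' (b ⊗ₜ (1 : B)) = 0 := by simpa [φ] using hb'
  obtain ⟨w, hw⟩ := (hex _).1 h0
  have key : ∀ w, TensorProduct.rid B B' ((LinearMap.ker φ).subtype.lTensor B' w) ∈
      Ideal.map (algebraMap B B') (LinearMap.ker φ) := by
    intro w
    induction w using TensorProduct.induction_on with
    | zero => simp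
    | add a c ha hc => rw [map_add, map_add]; exact add_mem ha hc
    | tmul c k =>
      rw [LinearMap.lTensor_tmul, TensorProduct.rid_tmul, Algebra.smul_def]
      exact Ideal.mul_mem_right _ _ (Ideal.mem_map_of_mem _ k.2)
  simpa [hw] using key w

theorem spread_primeCompl_of_baseChange (q : Ideal B) [q.IsPrime] (q' : Ideal B') [q'.IsPrime]
    (hq : q'.comap (algebraMap B B') = q) (h : Spread q'.primeCompl (K.baseChange B')) :
    Spread q.primeCompl K := by
  obtain ⟨L, hle, hfg, hL⟩ := h
  obtain ⟨K₀, h1, f1, hLK⟩ := exists_fg_le_baseChange B' K hfg hle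
  refine ⟨K₀, h1, f1, fun k hk => ?_⟩
  obtain ⟨s, hs, hsk⟩ := hL _ (Submodule.tmul_mem_baseChange_of_mem 1 hk)
  by_contra hne
  push Not at hne
  refine hs (Ideal.map_le_iff_le_comap.2 (fun t ht => ?_)
    (mem_map_of_smul_mem_baseChange B' K₀ k s (hLK hsk)))
  by_contra htq
  refine hne t (fun h' => htq (hq ▸ h')) ?_
  simpa [← map_smul, Submodule.Quotient.mk_eq_zero, ← Submodule.Quotient.mk_smul] using ht

theorem exists_spread_powers_of_baseChange [Algebra.FinitePresentation B B'] (q : Ideal B) [q.IsPrime]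
    (q' : Ideal B') [q'.IsPrime] (hq : q'.comap (algebraMap B B') = q) {g' : B'} (hg' : g' ∉ q')
    (h : Spread (Submonoid.powers g') (K.baseChange B')) : ∃ g ∉ q, Spread (Submonoid.powers g) K := by
  have ho : IsOpen (PrimeSpectrum.comap (algebraMap B B') ''
      (PrimeSpectrum.basicOpen g' : Set (PrimeSpectrum B'))) :=
    PrimeSpectrum.isOpenMap_comap_of_hasGoingDown_of_finitePresentation _
      (PrimeSpectrum.basicOpen g').2
  have hmem : (⟨q, ‹_›⟩ : PrimeSpectrum B) ∈ PrimeSpectrum.comap (algebraMap B B') ''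
      (PrimeSpectrum.basicOpen g' : Set (PrimeSpectrum B')) :=
    ⟨⟨q', ‹_›⟩, hg', PrimeSpectrum.ext hq⟩
  obtain ⟨_, ⟨g, rfl⟩, hgq, hsub⟩ :=
    PrimeSpectrum.isTopologicalBasis_basic_opens.exists_subset_of_mem_open hmem ho
  obtain ⟨L, hle, hfg, hL⟩ := h
  obtain ⟨K₀, h1, f1, hLK⟩ := exists_fg_le_baseChange B' K hfg hle
  refine ⟨g, hgq, K₀, h1, f1, fun k hk => ?_⟩
  have hrad : g ∈ Ideal.radical (LinearMap.ker (LinearMap.toSpanSingleton B (Q ⧸ K₀) (K₀.mkQ k))) := by
    rw [Ideal.radical_eq_sInf, Submodule.mem_sInf]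
    rintro p ⟨hp, hpp⟩
    by_contra hgp
    obtain ⟨P, hP, hPp⟩ := hsub (show (⟨p, hpp⟩ : PrimeSpectrum B) ∈ PrimeSpectrum.basicOpen g from hgp)
    obtain ⟨_, ⟨m, rfl⟩, hsk⟩ := hL _ (Submodule.tmul_mem_baseChange_of_mem 1 hk)
    refine hP (P.isPrime.mem_of_pow_mem m ?_)
    refine Ideal.map_le_iff_le_comap.2 (hp.trans ?_) (mem_map_of_smul_mem_baseChange B' K₀ k _ (hLK hsk))
    exact (congrArg PrimeSpectrum.asIdeal hPp).ge
  obtain ⟨m, hm⟩ := hrad
  refine ⟨g ^ m, ⟨m, rfl⟩, ?_⟩
  simpa [← map_smul, Submodule.Quotient.mk_eq_zero, ← Submodule.Quotient.mk_smul] using hm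

end BaseChange

section Integral

variable {C : Type u} [CommRing C] [Algebra B C] [Module.Finite B C] [Module C Q] [IsScalarTower B C Q]

omit [Module.Finite B C] in
theorem ann_le_comap (K₀ : Submodule C Q) (x : Q) (t : B) :
    t ∈ Ideal.comap (algebraMap B C)
        (LinearMap.ker (LinearMap.toSpanSingleton C (Q ⧸ K₀) (K₀.mkQ x))) ↔
      t • x ∈ K₀.restrictScalars B := by
  simp [← map_smul, ← Submodule.Quotient.mk_smul, Submodule.Quotient.mk_eq_zero, algebraMap_smul]

theorem spread_of_restrictScalars {T : Submonoid B} {T' : Submonoid C} (K : Submodule C Q)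
    (hT : ∀ s ∈ T, algebraMap B C s ∈ T') (h : Spread T (K.restrictScalars B)) : Spread T' K := by
  obtain ⟨K₀, hle, ⟨F, hF⟩, hk⟩ := h
  refine ⟨Submodule.span C (F : Set Q), Submodule.span_le.2 fun x hx => hle (hF ▸ Submodule.subset_span hx),
    ⟨F, rfl⟩, fun k hk' => ?_⟩
  obtain ⟨s, hs, hsk⟩ := hk k hk'
  refine ⟨algebraMap B C s, hT s hs, ?_⟩
  rw [algebraMap_smul]
  rw [← hF] at hsk
  exact Submodule.span_le_restrictScalars B C _ hsk

variable (y : Ideal B) [y.IsPrime] (z : Ideal C) [z.IsPrime] (hzy : z.comap (algebraMap B C) = y)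
  (huniq : ∀ (P : Ideal C) [P.IsPrime], P.comap (algebraMap B C) = y → P = z) (K : Submodule C Q)
include hzy huniq

theorem spread_primeCompl_iff_of_finite :
    Spread y.primeCompl (K.restrictScalars B) ↔ Spread z.primeCompl K := by
  refine ⟨spread_of_restrictScalars K fun s hs h' => hs (hzy ▸ h'), ?_⟩
  rintro ⟨K₀, hle, hfg, hk⟩
  haveI : Module.Finite C K₀ := Module.Finite.iff_fg.2 hfg
  haveI : Module.Finite B K₀ := Module.Finite.trans C K₀
  refine ⟨K₀.restrictScalars B, hle, Module.Finite.iff_fg.1 ‹Module.Finite B K₀›, fun k hk' => ?_⟩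
  obtain ⟨s, hs, hsk⟩ := hk k hk'
  by_contra hne
  push Not at hne
  haveI : Algebra.IsIntegral B C := Algebra.IsIntegral.of_finite B C
  obtain ⟨P, hP, hPp, hPy⟩ := Ideal.exists_ideal_over_prime_of_isIntegral y
    (LinearMap.ker (LinearMap.toSpanSingleton C (Q ⧸ K₀) (K₀.mkQ k))) (fun t ht => by
      by_contra hty
      exact hne t hty ((ann_le_comap K₀ k t).1 ht))
  refine hs (huniq P hPy ▸ hP ?_)
  simpa [← map_smul, ← Submodule.Quotient.mk_smul, Submodule.Quotient.mk_eq_zero] using hsk

theorem exists_spread_powers_iff_of_finite :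
    (∃ g ∉ y, Spread (Submonoid.powers g) (K.restrictScalars B)) ↔
      ∃ c ∉ z, Spread (Submonoid.powers c) K := by
  constructor
  · rintro ⟨g, hg, h⟩
    refine ⟨algebraMap B C g, fun h' => hg (hzy ▸ h'), spread_of_restrictScalars K ?_ h⟩
    rintro _ ⟨k, rfl⟩
    exact ⟨k, (map_pow _ _ _).symm⟩
  · rintro ⟨c, hc, K₀, hle, hfg, hk⟩
    haveI : Algebra.IsIntegral B C := Algebra.IsIntegral.of_finite B C
    obtain ⟨g, hgc, hgy⟩ : ∃ g, algebraMap B C g ∈ Ideal.span {c} ∧ g ∉ y := by
      by_contra hne
      push Not at hne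
      obtain ⟨P, hP, hPp, hPy⟩ :=
        Ideal.exists_ideal_over_prime_of_isIntegral y (Ideal.span {c}) (fun t ht => hne t ht)
      exact hc (huniq P hPy ▸ hP (Ideal.mem_span_singleton_self c))
    obtain ⟨a, ha⟩ := Ideal.mem_span_singleton'.1 hgc
    haveI : Module.Finite C K₀ := Module.Finite.iff_fg.2 hfg
    haveI : Module.Finite B K₀ := Module.Finite.trans C K₀
    refine ⟨g, hgy, K₀.restrictScalars B, hle, Module.Finite.iff_fg.1 ‹Module.Finite B K₀›, fun x hx => ?_⟩
    obtain ⟨_, ⟨k, rfl⟩, h0⟩ := hk x hx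
    refine ⟨g ^ k, ⟨k, rfl⟩, ?_⟩
    rw [Submodule.restrictScalars_mem, ← algebraMap_smul C (g ^ k) x, map_pow, ← ha, mul_pow, mul_smul]
    exact Submodule.smul_mem _ _ h0

end Integral

end Groth.Agent.FlatElem4
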