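import Mathlib.RingTheory.Flat.Localization
import Mathlib.RingTheory.Flat.Stability
import Mathlib.RingTheory.Ideal.GoingUp
import Mathlib.RingTheory.TensorProduct.IsBaseChangePi
import Mathlib.RingTheory.Spectrum.Prime.Chevalley

/-!
# Flatness of localised modules in terms of elements of tensor products
-/

set_option linter.style.haveILetI false

universe u

open TensorProduct

namespace Groth.Agent.FlatElem4

variable {A B : Type u} [CommRing A] [CommRing B] [Algebra A B]
  (M : Type u) [AddCommGroup M] [Module B M] [Module A M] [IsScalarTower A B M]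

variable (A) in
/-- The kernels of `M ⊗ f` for injective `f` are killed by elements of `T`. -/
def Killed (T : Submonoid B) : Prop :=
  ∀ ⦃P P' : Type u⦄ [AddCommGroup P] [AddCommGroup P'] [Module A P] [Module A P']
    (f : P →ₗ[A] P'), Function.Injective f → ∀ z : M ⊗[A] P, f.lTensor M z = 0 → ∃ s ∈ T, s • z = 0

/-- Flatness of a localised module in terms of elements. -/
theorem flat_localizedModule_iff (T : Submonoid B) :
    Module.Flat A (LocalizedModule T M) ↔ Killed A M T := by
  let L := LocalizedModule T M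
  let g := LocalizedModule.mkLinearMap T M
  have hcomm : ∀ {P P' : Type u} [AddCommGroup P] [AddCommGroup P'] [Module A P] [Module A P']
      (f : P →ₗ[A] P') (z : M ⊗[A] P),
      f.lTensor L (AlgebraTensorModule.rTensor A P g z) =
        AlgebraTensorModule.rTensor A P' g (f.lTensor M z) := by
    intro P P' _ _ _ _ f z
    induction z using TensorProduct.induction_on with
    | zero => simp
    | tmul m p => simp
    | add a b ha hb => simp only [map_add, ha, hb]
  constructor
  · intro hL P P' _ _ _ _ f hf z hz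
    have h0 : AlgebraTensorModule.rTensor A P g z = 0 :=
      Module.Flat.lTensor_preserves_injective_linearMap (M := L) f hf
        (by rw [hcomm, hz, map_zero, map_zero])
    obtain ⟨s, hs⟩ := (IsLocalizedModule.eq_zero_iff T (AlgebraTensorModule.rTensor A P g)).1 h0
    exact ⟨s, s.2, hs⟩
  · intro h
    rw [Module.Flat.iff_lTensor_preserves_injective_linearMap']
    intro P P' _ _ _ _ f hf
    refine (injective_iff_map_eq_zero _).2 fun z hz => ?_
    obtain ⟨⟨x, s⟩, hx⟩ := IsLocalizedModule.surj T (AlgebraTensorModule.rTensor A P g) z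
    have h1 : AlgebraTensorModule.rTensor A P' g (f.lTensor M x) = 0 := by
      rw [← hcomm, ← hx]
      show (AlgebraTensorModule.lTensor B L f) ((s : B) • z) = 0
      rw [map_smul, show AlgebraTensorModule.lTensor B L f z = 0 from hz, smul_zero]
    obtain ⟨t, ht⟩ := (IsLocalizedModule.eq_zero_iff T (AlgebraTensorModule.rTensor A P' g)).1 h1
    obtain ⟨u, hu, hux⟩ := h f hf ((t : B) • x) (by
      show (AlgebraTensorModule.lTensor B M f) ((t : B) • x) = 0
      rw [map_smul]
      exact ht)
    have h2 : ((u * t * s : B) • z) = 0 := by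
      rw [mul_smul, show (s : B) • z = AlgebraTensorModule.rTensor A P g x from hx, mul_smul,
        ← map_smul, ← map_smul, hux, map_zero]
    exact IsLocalizedModule.smul_injective (S := T) (AlgebraTensorModule.rTensor A P g)
      ⟨u * t * s, mul_mem (mul_mem hu t.2) s.2⟩
      (show ((u * t * s : B) • z) = (u * t * s : B) • (0 : L ⊗[A] P) by rw [smul_zero, h2])

theorem killed_congr {N : Type u} [AddCommGroup N] [Module B N] [Module A N] [IsScalarTower A B N]
    (e : M ≃ₗ[B] N) (T : Submonoid B) : Killed A M T ↔ Killed A N T := by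
  suffices H : ∀ (M N : Type u) [AddCommGroup M] [Module B M] [Module A M] [IsScalarTower A B M]
      [AddCommGroup N] [Module B N] [Module A N] [IsScalarTower A B N] (_ : M ≃ₗ[B] N),
      Killed A M T → Killed A N T from ⟨H M N e, H N M e.symm⟩
  intro M N _ _ _ _ _ _ _ _ e h P P' _ _ _ _ f hf z hz
  have hn : ∀ w : N ⊗[A] P, f.lTensor M (AlgebraTensorModule.rTensor A P e.symm.toLinearMap w) =
      AlgebraTensorModule.rTensor A P' e.symm.toLinearMap (f.lTensor N w) := by
    intro w
    induction w using TensorProduct.induction_on with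
    | zero => simp
    | tmul m p => simp
    | add a b ha hb => simp only [map_add, ha, hb]
  obtain ⟨s, hs, h0⟩ := h f hf (AlgebraTensorModule.rTensor A P e.symm.toLinearMap z)
    (by rw [hn, hz, map_zero])
  refine ⟨s, hs, ?_⟩
  have hr : ∀ w : N ⊗[A] P, AlgebraTensorModule.rTensor A P e.toLinearMap
      (AlgebraTensorModule.rTensor A P e.symm.toLinearMap w) = w := by
    intro w
    induction w using TensorProduct.induction_on with
    | zero => simp
    | tmul m p => simp
    | add a b ha hb => simp only [map_add, ha, hb]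
  rw [← hr z, ← map_smul, h0, map_zero]

section BaseChange

variable {B' : Type u} [CommRing B'] [Algebra B B'] [Algebra A B'] [IsScalarTower A B B']
  {M' : Type u} [AddCommGroup M'] [Module B' M'] [Module B M'] [IsScalarTower B B' M']
  [Module A M'] [IsScalarTower A B' M'] {fB : M →ₗ[B] M'} (hfB : IsBaseChange B' fB)
include hfB

/-- Base change commutes with tensoring by `P`. -/
noncomputable def tensorEquiv (P : Type u) [AddCommGroup P] [Module A P] :
    B' ⊗[B] (M ⊗[A] P) ≃ₗ[B'] M' ⊗[A] P :=
  (AlgebraTensorModule.assoc A B B' B' M P).symm ≪≫ₗ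
    AlgebraTensorModule.congr hfB.equiv (LinearEquiv.refl A P)

theorem tensorEquiv_tmul (P : Type u) [AddCommGroup P] [Module A P] (b : B') (m : M) (p : P) :
    tensorEquiv M hfB P (b ⊗ₜ[B] (m ⊗ₜ[A] p)) = (b • fB m) ⊗ₜ[A] p := by
  simp [tensorEquiv, IsBaseChange.equiv_tmul]

theorem tensorEquiv_natural {P P' : Type u} [AddCommGroup P] [Module A P] [AddCommGroup P']
    [Module A P'] (f : P →ₗ[A] P') (w : B' ⊗[B] (M ⊗[A] P)) :
    f.lTensor M' (tensorEquiv M hfB P w) =
      tensorEquiv M hfB P' ((AlgebraTensorModule.lTensor B M f).lTensor B' w) := by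
  induction w using TensorProduct.induction_on with
  | zero => simp
  | add a b ha hb => simp only [map_add, ha, hb]
  | tmul b z =>
    induction z using TensorProduct.induction_on with
    | zero => simp
    | add a c ha hc => simp only [tmul_add, map_add, ha, hc]
    | tmul m p => simp [tensorEquiv_tmul]

/-- Ascent along a flat algebra. -/
theorem killed_baseChange [Module.Flat B B'] {T : Submonoid B} {T' : Submonoid B'}
    (hT : ∀ s ∈ T, algebraMap B B' s ∈ T') (h : Killed A M T) : Killed A M' T' := by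
  intro P P' _ _ _ _ f hf z hz
  let fM := AlgebraTensorModule.lTensor B M f
  have hex := Module.Flat.lTensor_exact B' (LinearMap.exact_subtype_ker_map fM)
  have h0 : fM.lTensor B' ((tensorEquiv M hfB P).symm z) = 0 := by
    apply (tensorEquiv M hfB P').injective
    rw [map_zero, ← tensorEquiv_natural, LinearEquiv.apply_symm_apply, hz]
  obtain ⟨w, hw⟩ := (hex _).1 h0
  rw [← (tensorEquiv M hfB P).apply_symm_apply z, ← hw]
  clear hw h0 hz z
  induction w using TensorProduct.induction_on with
  | zero => exact ⟨1, T'.one_mem, by simp⟩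
  | tmul b k =>
    obtain ⟨s, hs, hk⟩ := h f hf k.1 k.2
    refine ⟨algebraMap B B' s, hT s hs, ?_⟩
    rw [← map_smul, LinearMap.lTensor_tmul, algebraMap_smul, ← tmul_smul, Submodule.subtype_apply,
      hk, tmul_zero, map_zero]
  | add a b ha hb =>
    obtain ⟨s, hs, ha⟩ := ha
    obtain ⟨t, ht, hb⟩ := hb
    refine ⟨s * t, mul_mem hs ht, ?_⟩
    rw [map_add, map_add, smul_add, mul_comm s, mul_smul, ha, mul_comm t, mul_smul, hb]
    simp

/-- The annihilator of `z` generates the annihilator of its image. -/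
theorem mem_map_ann [Module.Flat B B'] {P : Type u} [AddCommGroup P] [Module A P]
    (z : M ⊗[A] P) (b : B') (hb : b • tensorEquiv M hfB P (1 ⊗ₜ z) = 0) :
    b ∈ Ideal.map (algebraMap B B') (LinearMap.ker (LinearMap.toSpanSingleton B (M ⊗[A] P) z)) := by
  set φ := LinearMap.toSpanSingleton B (M ⊗[A] P) z
  have hex := Module.Flat.lTensor_exact B' (LinearMap.exact_subtype_ker_map φ)
  rw [← map_smul, smul_tmul', smul_eq_mul, mul_one, LinearEquiv.map_eq_zero_iff] at hb
  have h0 : φ.lTensor B' (b ⊗ₜ (1 : B)) = 0 := by simpa [φ] using hb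
  obtain ⟨w, hw⟩ := (hex _).1 h0
  have key : ∀ w, TensorProduct.rid B B' ((LinearMap.ker φ).subtype.lTensor B' w) ∈
      Ideal.map (algebraMap B B') (LinearMap.ker φ) := by
    intro w
    induction w using TensorProduct.induction_on with
    | zero => simp
    | add a c ha hc => rw [map_add, map_add]; exact add_mem ha hc
    | tmul c k =>
      rw [LinearMap.lTensor_tmul, TensorProduct.rid_tmul, Algebra.smul_def]
      exact Ideal.mul_mem_right _ _ (Ideal.mem_map_of_mem _ k.2)
  simpa [hw] using key w

/-- Descent along a flat algebra, at a prime. -/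
theorem killed_primeCompl_of_baseChange [Module.Flat B B'] (q : Ideal B) [q.IsPrime] (q' : Ideal B')
    [q'.IsPrime] (hq : q'.comap (algebraMap B B') = q) (h : Killed A M' q'.primeCompl) :
    Killed A M q.primeCompl := by
  intro P P' _ _ _ _ f hf z hz
  obtain ⟨s, hs, h0⟩ := h f hf (tensorEquiv M hfB P (1 ⊗ₜ z)) (by
    rw [tensorEquiv_natural]
    have : AlgebraTensorModule.lTensor B M f z = 0 := hz
    simp [this])
  by_contra hne
  push Not at hne
  refine hs (Ideal.map_le_iff_le_comap.2 (fun t ht => ?_) (mem_map_ann M hfB z s h0))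
  by_contra htq
  exact hne t (fun h' => htq (hq ▸ h')) ht

/-- Descent along an étale algebra, near a prime. -/
theorem exists_killed_powers_of_baseChange [Module.Flat B B'] [Algebra.FinitePresentation B B']
    (q : Ideal B) [q.IsPrime] (q' : Ideal B') [q'.IsPrime] (hq : q'.comap (algebraMap B B') = q)
    {g' : B'} (hg' : g' ∉ q') (h : Killed A M' (Submonoid.powers g')) :
    ∃ g ∉ q, Killed A M (Submonoid.powers g) := by
  have ho : IsOpen (PrimeSpectrum.comap (algebraMap B B') ''
      (PrimeSpectrum.basicOpen g' : Set (PrimeSpectrum B'))) :=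
    PrimeSpectrum.isOpenMap_comap_of_hasGoingDown_of_finitePresentation _
      (PrimeSpectrum.basicOpen g').2
  have hmem : (⟨q, ‹_›⟩ : PrimeSpectrum B) ∈ PrimeSpectrum.comap (algebraMap B B') ''
      (PrimeSpectrum.basicOpen g' : Set (PrimeSpectrum B')) :=
    ⟨⟨q', ‹_›⟩, hg', PrimeSpectrum.ext hq⟩
  obtain ⟨_, ⟨g, rfl⟩, hgq, hsub⟩ :=
    PrimeSpectrum.isTopologicalBasis_basic_opens.exists_subset_of_mem_open hmem ho
  refine ⟨g, hgq, fun P P' _ _ _ _ f hf z hz => ?_⟩
  have hrad : g ∈ Ideal.radical (LinearMap.ker (LinearMap.toSpanSingleton B (M ⊗[A] P) z)) := by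
    rw [Ideal.radical_eq_sInf, Submodule.mem_sInf]
    rintro p ⟨hp, hpp⟩
    by_contra hgp
    obtain ⟨Q, hQ, hQp⟩ := hsub (show (⟨p, hpp⟩ : PrimeSpectrum B) ∈ PrimeSpectrum.basicOpen g from hgp)
    obtain ⟨s, hs, h0⟩ := killed_primeCompl_of_baseChange M hfB p Q.asIdeal
      (congrArg PrimeSpectrum.asIdeal hQp) (fun P P' _ _ _ _ f hf z hz => by
        obtain ⟨s, ⟨k, rfl⟩, h0⟩ := h f hf z hz
        exact ⟨g' ^ k, fun hk => hQ (Q.isPrime.mem_of_pow_mem k hk), h0⟩) f hf z hz
    exact hs (hp h0)
  obtain ⟨k, hk⟩ := hrad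
  exact ⟨g ^ k, ⟨k, rfl⟩, hk⟩

end BaseChange

section Integral

variable {C : Type u} [CommRing C] [Algebra A C] [Algebra B C] [IsScalarTower A B C]
  {G : Type u} [AddCommGroup G] [Module C G] [Module B G] [IsScalarTower B C G]
  [Module A G] [IsScalarTower A B G] [IsScalarTower A C G] [Algebra.IsIntegral B C]
  (y : Ideal B) [y.IsPrime] (z : Ideal C) [z.IsPrime] (hzy : z.comap (algebraMap B C) = y)
  (huniq : ∀ (Q : Ideal C) [Q.IsPrime], Q.comap (algebraMap B C) = y → Q = z)
include hzy huniq

theorem killed_primeCompl_iff_of_integral :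
    Killed A G y.primeCompl ↔ Killed A G z.primeCompl := by
  constructor
  · intro h P P' _ _ _ _ f hf x hx
    obtain ⟨s, hs, h0⟩ := h f hf x hx
    exact ⟨algebraMap B C s, fun h' => hs (hzy ▸ h'), by rw [algebraMap_smul, h0]⟩
  · intro h P P' _ _ _ _ f hf x hx
    obtain ⟨s, hs, h0⟩ := h f hf x hx
    by_contra hne
    push Not at hne
    obtain ⟨Q, hQ, hQp, hQy⟩ := Ideal.exists_ideal_over_prime_of_isIntegral y
      (LinearMap.ker (LinearMap.toSpanSingleton C (G ⊗[A] P) x)) (fun t ht => by
        by_contra hty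
        refine hne t hty ?_
        rw [← algebraMap_smul C t x]
        exact ht)
    exact hs (huniq Q hQy ▸ hQ h0)

theorem exists_killed_powers_iff_of_integral :
    (∃ g ∉ y, Killed A G (Submonoid.powers g)) ↔ ∃ c ∉ z, Killed A G (Submonoid.powers c) := by
  constructor
  · rintro ⟨g, hg, h⟩
    refine ⟨algebraMap B C g, fun h' => hg (hzy ▸ h'), fun P P' _ _ _ _ f hf x hx => ?_⟩
    obtain ⟨_, ⟨k, rfl⟩, h0⟩ := h f hf x hx
    exact ⟨algebraMap B C g ^ k, ⟨k, rfl⟩, by rw [← map_pow, algebraMap_smul, h0]⟩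
  · rintro ⟨c, hc, h⟩
    obtain ⟨g, hgc, hgy⟩ : ∃ g, algebraMap B C g ∈ Ideal.span {c} ∧ g ∉ y := by
      by_contra hne
      push Not at hne
      obtain ⟨Q, hQ, hQp, hQy⟩ :=
        Ideal.exists_ideal_over_prime_of_isIntegral y (Ideal.span {c}) (fun t ht => hne t ht)
      exact hc (huniq Q hQy ▸ hQ (Ideal.mem_span_singleton_self c))
    obtain ⟨a, ha⟩ := Ideal.mem_span_singleton'.1 hgc
    refine ⟨g, hgy, fun P P' _ _ _ _ f hf x hx => ?_⟩
    obtain ⟨_, ⟨k, rfl⟩, h0⟩ := h f hf x hx
    exact ⟨g ^ k, ⟨k, rfl⟩, by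
      rw [← algebraMap_smul C (g ^ k) x, map_pow, ← ha, mul_pow, mul_smul, h0, smul_zero]⟩

end Integral

end Groth.Agent.FlatElem4
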